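import Groth.Agent.Lib.MeroLib.Curve
import Groth.Agent.Lib.MeroLib.DivMod
import Groth.Agent.Lib.Ample18.Gen
import Groth.Agent.Lib.RelAmple18.Generation
import Groth.Agent.Lib.RelAmple18.Generated
import Groth.Agent.Lib.CurveCoh17.Skyscraper
import Groth.Agent.Lib.CurveCoh17.Point
import Groth.Agent.Lib.CurveNF.Dim
import Groth.Agent.Lib.RegLoc.Basic

/-!
# Global generation of the module of an effective divisor on a curve
-/

set_option autoImplicit false
set_option linter.style.haveILetI false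
set_option linter.unusedSectionVars false
set_option backward.isDefEq.respectTransparency false
set_option maxHeartbeats 400000

universe u

noncomputable section

open CategoryTheory AlgebraicGeometry TopologicalSpace Opposite

namespace Groth.Agent.GGDiv2

open Groth.Agent.MeroLib

variable {X : Scheme.{u}}

/-- The algebra map to meromorphic germs. -/
abbrev toKS (x : X) : X.presheaf.stalk x →+* Mero.KStalk X x := algebraMap _ _

/-- The unit of meromorphic germs attached to a regular germ. -/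
abbrev regUnit {x : X} (a : Mero.regStalk X x) : (Mero.KStalk X x)ˣ :=
  (IsLocalization.map_units (Mero.KStalk X x) a).unit

/-- A section generates at a point iff it has unit value against a local equation. -/
theorem mem_genLocus_iff (D : Mero.Divisor X) (t : Γ(Mero.divMod D, ⊤)) (x : X) (g : (Mero.KStalk X x)ˣ)
    (hg : D.1 x = QuotientGroup.mk g) :
    x ∈ CohB1.genLocus (Mero.divMod D) (M1.secHom t) ↔
      ∃ w, IsUnit w ∧ t.1 ⟨x, Opens.mem_top x⟩ * (g : Mero.KStalk X x) = toKS x w := by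
  obtain ⟨U, hxU, f, hU⟩ := D.2 x
  have he : M2.IsGenerator (genSec D f hU) := fun V hV => genSec_bijective D f hU V hV
  obtain ⟨a, ha⟩ := Amp.exists_coeff he (M1.mres (Mero.divMod D) (le_top : U ≤ ⊤) t)
  have hloc : CohB1.genLocus (Mero.divMod D) (M1.secHom t) ⊓ U = X.basicOpen a :=
    Amp.genLocus_inf_eq_basicOpen (isInvertible_divMod D) (M1.secHom t) he (by rw [Amp.gval_secHom]; exact ha)
  have hval : t.1 ⟨x, Opens.mem_top x⟩ * (unitAt f ⟨x, hxU⟩ : Mero.KStalk X x) =
      toKS x (X.presheaf.germ U x hxU a) := by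
    have h1 : (a • genSec D f hU).1 ⟨x, hxU⟩ = t.1 ⟨x, Opens.mem_top x⟩ :=
      congrFun (congrArg Subtype.val ha) ⟨x, hxU⟩
    rw [← h1]
    change (X.presheaf.germ U x hxU a • ((f⁻¹ : (Γ(Mero.kmod X, U))ˣ) : Γ(Mero.kmod X, U)).1 ⟨x, hxU⟩) * _ = _
    rw [smul_mul_assoc, Algebra.smul_def]
    have h2 : ((f⁻¹ : (Γ(Mero.kmod X, U))ˣ) : Γ(Mero.kmod X, U)).1 ⟨x, hxU⟩ *
        (unitAt f ⟨x, hxU⟩ : Mero.KStalk X x) = 1 :=
      congrFun (congrArg Subtype.val f.inv_mul) ⟨x, hxU⟩
    rw [h2, mul_one]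
  have hq : (QuotientGroup.mk (unitAt f ⟨x, hxU⟩) : Mero.Germ X x) = QuotientGroup.mk g :=
    (hU ⟨x, hxU⟩).symm.trans hg
  rw [QuotientGroup.eq] at hq
  obtain ⟨v, hv⟩ := hq
  have hgv : (g : Mero.KStalk X x) = (unitAt f ⟨x, hxU⟩ : Mero.KStalk X x) * toKS x v := by
    have h3 : g = unitAt f ⟨x, hxU⟩ * ((unitAt f ⟨x, hxU⟩)⁻¹ * g) := by rw [mul_inv_cancel_left]
    rw [← hv] at h3
    exact congrArg Units.val h3
  rw [hgv, ← mul_assoc, hval, ← map_mul]
  have hm : x ∈ CohB1.genLocus (Mero.divMod D) (M1.secHom t) ↔ IsUnit (X.presheaf.germ U x hxU a) := by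
    rw [← X.mem_basicOpen a x hxU, ← hloc]
    exact ⟨fun h => ⟨h, hxU⟩, fun h => h.1⟩
  rw [hm]
  constructor
  · exact fun h => ⟨_, h.mul v.isUnit, rfl⟩
  · rintro ⟨w, hw, e⟩
    rw [← Mero.algebraMap_KStalk_injective x e] at hw
    exact isUnit_of_mul_isUnit_left hw

/-- Every section has an integral value against a local equation. -/
theorem exists_val (D : Mero.Divisor X) (t : Γ(Mero.divMod D, ⊤)) (x : X) (g : (Mero.KStalk X x)ˣ)
    (hg : D.1 x = QuotientGroup.mk g) : ∃ w, t.1 ⟨x, Opens.mem_top x⟩ * (g : Mero.KStalk X x) = toKS x w := by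
  obtain ⟨w, hw⟩ := t.2.2 ⟨x, Opens.mem_top x⟩ g hg
  exact ⟨w, hw.symm⟩

variable {D : Mero.Divisor X}

/-- The unit section of the module of an effective divisor. -/
def oneSec (hD : Mero.IsEffective D) : Γ(Mero.divMod D, ⊤) :=
  ⟨(1 : Γ(Mero.kmod X, (⊤ : X.Opens))).1, (1 : Γ(Mero.kmod X, (⊤ : X.Opens))).2, fun y => by
    obtain ⟨a, ha⟩ := hD y.1
    refine (divCond_iff D y.1 _ _ ha).2 ?_
    rw [Mero.kmod_one_apply, one_mul]
    exact ⟨a.1, rfl⟩⟩

theorem mem_genLocus_oneSec (hD : Mero.IsEffective D) {x : X} (hx : x ∉ Mero.supp D) :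
    x ∈ CohB1.genLocus (Mero.divMod D) (M1.secHom (oneSec hD)) := by
  have h : D.1 x = QuotientGroup.mk 1 := by
    by_contra h
    exact hx h
  refine (mem_genLocus_iff D _ x 1 h).2 ⟨1, isUnit_one, ?_⟩
  change (1 : Γ(Mero.kmod X, (⊤ : X.Opens))).1 ⟨x, Opens.mem_top x⟩ * _ = _
  rw [Mero.kmod_one_apply, Units.val_one, mul_one, map_one]

/-- Inclusion of modules of divisors. -/
def incl {D' D : Mero.Divisor X} (h : ∀ x t, Mero.DivCond D' x t → Mero.DivCond D x t) :
    Mero.divMod D' ⟶ Mero.divMod D :=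
  ⟨PresheafOfModules.homMk (M₁ := (Mero.divMod D').val) (M₂ := (Mero.divMod D).val)
    { app := fun U => AddCommGrpCat.ofHom
        { toFun := fun (t : Γ(Mero.divMod D', U.unop)) =>
            (⟨t.1, ⟨t.2.1, fun x => h x.1 _ (t.2.2 x)⟩⟩ : Γ(Mero.divMod D, U.unop))
          map_zero' := rfl
          map_add' := fun _ _ => rfl }
      naturality := by intros; rfl }
    (fun _ _ _ => rfl)⟩

theorem incl_val {D' D : Mero.Divisor X} (h : ∀ x t, Mero.DivCond D' x t → Mero.DivCond D x t)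
    {U : X.Opens} (t : Γ(Mero.divMod D', U)) (x : U) : ((incl h).app U t).1 x = t.1 x := rfl

section PointDiv

variable {x : X} (hx : IsClosed ({x} : Set X))

include hx in
theorem ideal_eq_top {U : X.affineOpens} (h : x ∉ U.1) : (X.fromSpecResidueField x).ker.ideal U = ⊤ := by
  rw [CurveCoh17.ker_fromSpecResidueField hx]
  show PrimeSpectrum.vanishingIdeal (U.2.fromSpec ⁻¹' ({x} : Set X)) = ⊤
  rw [← Set.preimage_inter_range, IsAffineOpen.range_fromSpec,
    show ({x} : Set X) ∩ (U.1 : Set X) = ∅ from Set.singleton_inter_eq_empty.2 h, Set.preimage_empty,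
    PrimeSpectrum.vanishingIdeal_empty]

include hx in
theorem ideal_eq_prime (U : X.affineOpens) (h : x ∈ U.1) :
    (X.fromSpecResidueField x).ker.ideal U = (U.2.primeIdealOf ⟨x, h⟩).asIdeal := by
  have hpre : (U.2.fromSpec ⁻¹' ({x} : Set X)) = {U.2.primeIdealOf ⟨x, h⟩} := by
    ext P
    rw [Set.mem_preimage, Set.mem_singleton_iff, Set.mem_singleton_iff]
    constructor
    · intro h'
      exact U.2.fromSpec.isOpenEmbedding.injective (h'.trans (U.2.fromSpec_primeIdealOf ⟨x, h⟩).symm)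
    · rintro rfl
      exact U.2.fromSpec_primeIdealOf ⟨x, h⟩
  rw [CurveCoh17.ker_fromSpecResidueField hx, Scheme.IdealSheafData.vanishingIdeal_ideal]
  change PrimeSpectrum.vanishingIdeal (U.2.fromSpec ⁻¹' ({x} : Set X)) = _
  rw [hpre, PrimeSpectrum.vanishingIdeal_singleton]

variable {P : Mero.Divisor X} (hP : Mero.IsDivOfIdeal P (X.fromSpecResidueField x).ker)

include hx hP in
theorem divOfPoint_eq_one {y : X} (hy : y ≠ x) : P.1 y = 1 := by
  obtain ⟨U, hyU, f, hf, hI, hPU⟩ := hP y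
  obtain ⟨V, hV, hyV, hVle⟩ := exists_isAffineOpen_mem_and_subset (x := y)
    (U := U.1 ⊓ ⟨({x} : Set X)ᶜ, hx.isOpen_compl⟩) ⟨hyU, hy⟩
  have hVU : V ≤ U.1 := fun z hz => (hVle hz).1
  have hxV : x ∉ V := fun h => (hVle h).2 rfl
  have h1 : IsUnit (X.presheaf.map (homOfLE hVU).op f) := by
    rw [← Ideal.span_singleton_eq_top, ← Set.image_singleton, ← Ideal.map_span, ← hI]
    exact ((X.fromSpecResidueField x).ker.map_ideal (U := ⟨V, hV⟩) (V := U) hVU).trans (ideal_eq_top hx hxV)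
  have h2 := h1.map (X.presheaf.germ V y hyV).hom
  rw [TopCat.Presheaf.germ_res_apply] at h2
  rw [hPU ⟨y, hyU⟩, QuotientGroup.eq_one_iff]
  exact ⟨h2.unit, Units.ext rfl⟩

include hx hP in
theorem divOfPoint_self : ∃ π : Mero.regStalk X x, P.1 x = QuotientGroup.mk (regUnit π) ∧
    IsLocalRing.maximalIdeal (X.presheaf.stalk x) = Ideal.span {(π : X.presheaf.stalk x)} := by
  obtain ⟨U, hxU, f, hf, hI, hPU⟩ := hP x
  refine ⟨Mero.regGerm ⟨x, hxU⟩ ⟨f, hf⟩, hPU ⟨x, hxU⟩, ?_⟩
  have hI' := hI.symm.trans (ideal_eq_prime hx U hxU)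
  letI := TopCat.Presheaf.algebra_section_stalk X.presheaf (⟨x, hxU⟩ : U.1)
  haveI := U.2.isLocalization_stalk ⟨x, hxU⟩
  rw [← IsLocalization.AtPrime.map_eq_maximalIdeal (U.2.primeIdealOf ⟨x, hxU⟩).asIdeal (X.presheaf.stalk x),
    ← hI', Ideal.map_span, Set.image_singleton]
  rfl

end PointDiv

section Existence

variable [IsNoetherian X] (hC : ∀ y : X, IsClosed ({y} : Set X) → ringKrullDim (X.presheaf.stalk y) = 1)
  {x : X} (hx : IsClosed ({x} : Set X)) [IsRegularLocalRing (X.presheaf.stalk x)]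

include hC hx in
theorem exists_divOfPoint : ∃ P : Mero.Divisor X, Mero.IsDivOfIdeal P (X.fromSpecResidueField x).ker := by
  classical
  haveI := M1.isQCoh_structureModule X
  haveI : IsDomain (X.presheaf.stalk x) := RegLoc.isDomain _
  have hnf : ¬ IsField (X.presheaf.stalk x) := fun h => by
    have := ringKrullDim_eq_zero_of_isField h
    rw [hC x hx] at this
    exact one_ne_zero this
  have hprin : (IsLocalRing.maximalIdeal (X.presheaf.stalk x)).IsPrincipal := by
    have h := IsRegularLocalRing.spanFinrank_maximalIdeal (R := X.presheaf.stalk x)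
    rw [hC x hx] at h
    exact ((Submodule.spanFinrank_eq_one_iff _).1 (by exact_mod_cast h)).1
  obtain ⟨π₀, hπ₀⟩ := hprin
  have hπ₀ne : π₀ ≠ 0 := fun h => hnf (IsLocalRing.isField_iff_maximalIdeal_eq.2 (by
    rw [hπ₀, h, Submodule.span_zero_singleton]))
  obtain ⟨W', hxW', f', hf'⟩ := X.presheaf.exists_germ_eq π₀
  obtain ⟨W, hW, hxW, hWle⟩ := exists_isAffineOpen_mem_and_subset (U := W') hxW'
  let fW : Γ(X, W) := X.presheaf.map (homOfLE hWle).op f'
  have hfx : X.presheaf.germ W x hxW fW = π₀ := (TopCat.Presheaf.germ_res_apply X.presheaf _ _ _ _).trans hf'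
  have hfnzd : X.presheaf.germ W x hxW fW ∈ nonZeroDivisors (X.presheaf.stalk x) :=
    mem_nonZeroDivisors_of_ne_zero (hfx ▸ hπ₀ne)
  -- shrink so that `fW` is a unit away from `x`
  let Z : Set X := (X.basicOpen fW : Set X)ᶜ
  obtain ⟨S, hSfin, hSc, hSi, hS⟩ :=
    NoetherianSpace.exists_finite_set_isClosed_irreducible (s := Z) (X.basicOpen fW).isOpen.isClosed_compl
  have hcomp : ∀ T ∈ S, x ∈ T → T = {x} := fun T hT hxT => by
    obtain ⟨η, hη⟩ := QuasiSober.sober (hSi T hT) (hSc T hT)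
    have hηx : η ⤳ x := hη.specializes hxT
    have hηW : η ∈ W := hηx.mem_open W.isOpen hxW
    have hηZ : η ∈ Z := hS ▸ ⟨T, hT, hη.mem⟩
    have hηcl : IsClosed ({η} : Set X) := by
      by_contra hn
      refine hηZ ((X.mem_basicOpen fW η hηW).2 ?_)
      have hreg : X.presheaf.germ W η hηW fW ∈ nonZeroDivisors (X.presheaf.stalk η) :=
        WA.germ_mem_nonZeroDivisors hW hηW fW fun y hy hyη hwa =>
          WA.isUnit_germ_of_nonZeroDivisors hW hxW hy (hyη.trans hηx) fW hfnzd hwa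
      exact isUnit_of_not_closed hC hn hηW fW hreg
    have he : x = η := by
      have h2 := specializes_iff_mem_closure.1 hηx
      rwa [hηcl.closure_eq] at h2
    rw [← hη.def, ← he, hx.closure_eq]
  let S' : Set (Set X) := {T | T ∈ S ∧ x ∉ T}
  obtain ⟨U, hU, hxU, hUle⟩ := exists_isAffineOpen_mem_and_subset (x := x)
    (U := W ⊓ ⟨(⋃₀ S')ᶜ, by
      rw [Set.sUnion_eq_biUnion]
      exact ((hSfin.subset fun T hT => hT.1).isClosed_biUnion fun T hT => hSc T hT.1).isOpen_compl⟩)
    ⟨hxW, fun h => by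
      obtain ⟨T, hT, hxT⟩ := h
      exact hT.2 hxT⟩
  have hUW : U ≤ W := fun z hz => (hUle hz).1
  let f : Γ(X, U) := X.presheaf.map (homOfLE hUW).op fW
  have hfU : ∀ y (hy : y ∈ U), X.presheaf.germ U y hy f = X.presheaf.germ W y (hUW hy) fW := fun y hy =>
    TopCat.Presheaf.germ_res_apply X.presheaf _ _ _ _
  have hunit : ∀ y (hy : y ∈ U), y ≠ x → IsUnit (X.presheaf.germ U y hy f) := fun y hy hne => by
    rw [hfU]
    by_contra hn
    have hyZ : y ∈ Z := fun h => hn ((X.mem_basicOpen fW y (hUW hy)).1 h)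
    rw [hS] at hyZ
    obtain ⟨T, hT, hyT⟩ := hyZ
    by_cases hxT : x ∈ T
    · rw [hcomp T hT hxT] at hyT
      exact hne hyT
    · exact (hUle hy).2 ⟨T, ⟨hT, hxT⟩, hyT⟩
  have hfx' : X.presheaf.germ U x hxU f = π₀ := (hfU x hxU).trans hfx
  have hreg : f ∈ Mero.regSub X U := fun y => by
    rcases eq_or_ne y.1 x with h | h
    · obtain ⟨y, hy⟩ := y
      subst h
      rw [hfx']
      exact mem_nonZeroDivisors_of_ne_zero hπ₀ne
    · exact (hunit y.1 y.2 h).mem_nonZeroDivisors
  have hI : (X.fromSpecResidueField x).ker.ideal ⟨U, hU⟩ = Ideal.span {f} := by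
    have hπmem : π₀ ∈ IsLocalRing.maximalIdeal (X.presheaf.stalk x) := by
      rw [hπ₀]; exact Submodule.mem_span_singleton_self π₀
    rw [ideal_eq_prime hx ⟨U, hU⟩ hxU]
    refine le_antisymm (fun g hg => ?_) ((Ideal.span_singleton_le_iff_mem _).2 ?_)
    · obtain ⟨r, hr⟩ := exists_section (X := X) (U := U)
        (⟨fun z => LocalizedModule.mk (X.presheaf.germ U z.1 z.2 g) (Mero.regGerm z ⟨f, hreg⟩),
          fun z => ⟨U, z.2, 𝟙 _, g, ⟨f, hreg⟩, fun _ => rfl⟩⟩ : Γ(Mero.kmod X, U)) fun z => by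
        obtain ⟨c, hc⟩ : X.presheaf.germ U z.1 z.2 f ∣ X.presheaf.germ U z.1 z.2 g := by
          rcases eq_or_ne z.1 x with h | h
          · obtain ⟨z, hz⟩ := z
            subst h
            have hgm : X.presheaf.germ U _ hz g ∈ IsLocalRing.maximalIdeal (X.presheaf.stalk _) :=
              fun hu => (M1.isUnit_germ_iff hU hz g).1 hu hg
            rw [hπ₀, ← hfx'] at hgm
            exact Ideal.mem_span_singleton.1 hgm
          · exact (hunit z.1 z.2 h).dvd
        refine ⟨c, ?_⟩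
        rw [algebraMap_eq_mk]
        refine LocalizedModule.mk_eq.2 ⟨1, ?_⟩
        simp only [Submonoid.smul_def, smul_eq_mul, OneMemClass.coe_one, one_mul]
        exact hc.symm
      refine Ideal.mem_span_singleton.2 ⟨r, TopCat.Presheaf.section_ext X.sheaf U _ _ fun z hz => ?_⟩
      have h1 : toKS z (X.presheaf.germ U z hz r) =
          LocalizedModule.mk (X.presheaf.germ U z hz g) (Mero.regGerm ⟨z, hz⟩ ⟨f, hreg⟩) :=
        congrFun (congrArg Subtype.val hr) ⟨z, hz⟩
      have h2 := WA.mk_eq_div (X.presheaf.germ U z hz g) (Mero.regGerm ⟨z, hz⟩ ⟨f, hreg⟩)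
      rw [← h1, ← map_mul] at h2
      change X.presheaf.germ U z hz g = X.presheaf.germ U z hz (f * r)
      rw [map_mul, ← Mero.algebraMap_KStalk_injective z h2, mul_comm]
    · by_contra hn
      have := (M1.isUnit_germ_iff hU hxU f).2 hn
      rw [hfx'] at this
      exact hπmem this
  let g₀ : Mero.Germ X x :=
    QuotientGroup.mk (regUnit (Mero.regGerm ⟨x, hxU⟩ ⟨f, hreg⟩) : (Mero.KStalk X x)ˣ)
  let G : ∀ y : X, Mero.Germ X y := Function.update 1 x g₀
  have hGne : ∀ y, y ≠ x → G y = 1 := fun y h => Function.update_of_ne h _ _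
  have hG : G ∈ Mero.divisorGroup X := mem_divisorGroup hC G
    ((Set.finite_singleton x).subset fun y hy => by_contra fun h => hy (hGne y h))
    fun y hy => hGne y fun h => hy (h ▸ hx)
  refine ⟨⟨G, hG⟩, fun y => ?_⟩
  rcases eq_or_ne y x with rfl | hne
  · refine ⟨⟨U, hU⟩, hxU, f, hreg, hI, fun z => ?_⟩
    change G z.1 = _
    rcases eq_or_ne z.1 y with h | h
    · obtain ⟨z, hz⟩ := z
      subst h
      rw [show G z = g₀ from Function.update_self _ _ _]
    · rw [hGne _ h, eq_comm, QuotientGroup.eq_one_iff]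
      exact ⟨(hunit z.1 z.2 h).unit, Units.ext rfl⟩
  · obtain ⟨V, hV, hyV, hVle⟩ := exists_isAffineOpen_mem_and_subset (x := y)
      (U := ⟨({x} : Set X)ᶜ, hx.isOpen_compl⟩) hne
    refine ⟨⟨V, hV⟩, hyV, 1, one_mem _, ?_, fun z => ?_⟩
    · rw [ideal_eq_top hx fun h => hVle h rfl, Ideal.span_singleton_one]
    · change G z.1 = _
      rw [hGne _ (hVle z.2), eq_comm, QuotientGroup.eq_one_iff]
      exact ⟨1, Units.ext (by
        change toKS z.1 ((1 : (X.presheaf.stalk z.1)ˣ) : X.presheaf.stalk z.1) =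
          toKS z.1 (X.presheaf.germ V z.1 z.2 1)
        rw [map_one, map_one, Units.val_one, map_one])⟩

end Existence

section Main

variable {k : Type u} [Field k] [X.Over (Spec (CommRingCat.of k))] [IsNoetherian X]

theorem isGloballyGenerated_iff (hC : ∀ y : X, IsClosed ({y} : Set X) → ringKrullDim (X.presheaf.stalk y) = 1)
    (hfin : ∀ A : Mero.Divisor X, Module.Finite k (Coh.HH X (Mero.divMod A) 0))
    (hD : Mero.IsEffective D) (hreg : ∀ x ∈ Mero.supp D, IsRegularLocalRing (X.presheaf.stalk x)) :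
    Curv2.IsGloballyGenerated (Mero.divMod D) ↔
      ∀ x ∈ Mero.supp D, ∀ P : Mero.Divisor X, Mero.IsDivOfIdeal P (X.fromSpecResidueField x).ker →
        Module.finrank k (Coh.HH X (Mero.divMod (D * P⁻¹)) 0) < Module.finrank k (Coh.HH X (Mero.divMod D) 0) := by
  have hcl : ∀ x ∈ Mero.supp D, IsClosed ({x} : Set X) := fun x hx => by
    by_contra h
    exact hx ((support_finite hC D).2 x h)
  have key : ∀ x ∈ Mero.supp D, ∀ P : Mero.Divisor X, Mero.IsDivOfIdeal P (X.fromSpecResidueField x).ker →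
      (Module.finrank k (Coh.HH X (Mero.divMod (D * P⁻¹)) 0) < Module.finrank k (Coh.HH X (Mero.divMod D) 0) ↔
        ∃ t : Γ(Mero.divMod D, ⊤), x ∈ CohB1.genLocus (Mero.divMod D) (M1.secHom t)) := by
    intro x hx P hP
    obtain ⟨a, ha⟩ := hD x
    obtain ⟨π, hπ, hmax⟩ := divOfPoint_self (hcl x hx) hP
    have hx' : (D * P⁻¹).1 x = QuotientGroup.mk (regUnit a * (regUnit π)⁻¹) := by
      change D.1 x * (P.1 x)⁻¹ = _
      rw [ha, hπ, QuotientGroup.mk_mul, QuotientGroup.mk_inv]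
    have hne : ∀ y, y ≠ x → (D * P⁻¹).1 y = D.1 y := fun y h => by
      change D.1 y * (P.1 y)⁻¹ = _
      rw [divOfPoint_eq_one (hcl x hx) hP h]
      exact (congrArg (fun q : Mero.Germ X y => D.1 y * q) inv_one).trans (mul_one (D.1 y : Mero.Germ X y))
    -- the condition at `x` for the smaller divisor
    have hcond : ∀ s : Mero.KStalk X x, Mero.DivCond (D * P⁻¹) x s ↔
        ∃ w, ¬ IsUnit w ∧ s * (regUnit a : Mero.KStalk X x) = toKS x w := by
      intro s
      rw [divCond_iff _ x s _ hx']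
      constructor
      · rintro ⟨c, hc⟩
        refine ⟨c * π.1, fun h => ?_, ?_⟩
        · have hπm : (π : X.presheaf.stalk x) ∈ IsLocalRing.maximalIdeal (X.presheaf.stalk x) :=
            hmax ▸ Submodule.mem_span_singleton_self _
          exact hπm (isUnit_of_mul_isUnit_right h)
        · rw [map_mul]
          have e : toKS x π.1 = (regUnit π : Mero.KStalk X x) := rfl
          rw [e, show toKS x c = _ from hc, Units.val_mul, mul_assoc, Units.inv_mul_cancel_right]
      · rintro ⟨w, hw, e⟩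
        have hwm : w ∈ IsLocalRing.maximalIdeal (X.presheaf.stalk x) := hw
        rw [hmax] at hwm
        obtain ⟨c, rfl⟩ := Ideal.mem_span_singleton.1 hwm
        refine ⟨c, ?_⟩
        rw [Units.val_mul, ← mul_assoc, e, map_mul, mul_comm (toKS x π.1), mul_assoc]
        have e' : toKS x π.1 = (regUnit π : Mero.KStalk X x) := rfl
        rw [e', Units.mul_inv, mul_one]
    have hle : ∀ y t, Mero.DivCond (D * P⁻¹) y t → Mero.DivCond D y t := fun y t ht => by
      rcases eq_or_ne y x with rfl | h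
      · obtain ⟨w, -, e⟩ := (hcond t).1 ht
        exact (divCond_iff D y t _ ha).2 ⟨w, e.symm⟩
      · exact fun g hg => ht g ((hne y h).trans hg)
    let φ := CurveCoh17.hmap k (incl hle) 0
    have hφ : Function.Injective φ := fun u v h => by
      refine (CurveCoh17.hh0 (Mero.divMod (D * P⁻¹))).injective (Subtype.ext (funext fun z => ?_))
      have h' := congrArg (CurveCoh17.hh0 (Mero.divMod D)) h
      rw [CurveCoh17.hh0_hmap, CurveCoh17.hh0_hmap] at h'
      exact congrFun (congrArg Subtype.val h') z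
    haveI := hfin D
    haveI := hfin (D * P⁻¹)
    constructor
    · intro hlt
      by_contra hn
      push Not at hn
      refine hlt.ne ((LinearEquiv.ofBijective φ ⟨hφ, fun u => ?_⟩).finrank_eq)
      let t : Γ(Mero.divMod D, ⊤) := CurveCoh17.hh0 _ u
      have ht : ∀ y : (⊤ : X.Opens), Mero.DivCond (D * P⁻¹) y.1 (t.1 y) := fun y => by
        obtain ⟨y, hy⟩ := y
        rcases eq_or_ne y x with rfl | h
        · obtain ⟨w, hw⟩ := exists_val D t y _ ha
          refine (hcond _).2 ⟨w, fun hu => hn t ((mem_genLocus_iff D t y _ ha).2 ⟨w, hu, hw⟩), hw⟩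
        · exact fun g hg => t.2.2 ⟨y, hy⟩ g ((hne y h).symm.trans hg)
      refine ⟨(CurveCoh17.hh0 _).symm (⟨t.1, t.2.1, ht⟩ : Γ(Mero.divMod (D * P⁻¹), ⊤)), ?_⟩
      apply (CurveCoh17.hh0 (Mero.divMod D)).injective
      rw [CurveCoh17.hh0_hmap, AddEquiv.apply_symm_apply]
      rfl
    · rintro ⟨t, ht⟩
      refine lt_of_le_of_ne (LinearMap.finrank_le_finrank_of_injective hφ) fun he => ?_
      obtain ⟨u, hu⟩ := ((LinearMap.injective_iff_surjective_of_finrank_eq_finrank he).1 hφ)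
        ((CurveCoh17.hh0 _).symm t)
      have h' := congrArg (CurveCoh17.hh0 (Mero.divMod D)) hu
      rw [CurveCoh17.hh0_hmap, AddEquiv.apply_symm_apply] at h'
      have hc := (CurveCoh17.hh0 (Mero.divMod (D * P⁻¹)) u).2.2 ⟨x, Opens.mem_top x⟩
      obtain ⟨w, hw, e⟩ := (hcond _).1 hc
      obtain ⟨w', hw', e'⟩ := (mem_genLocus_iff D t x _ ha).1 ht
      rw [← h'] at e'
      exact hw (Mero.algebraMap_KStalk_injective x (e'.symm.trans e) ▸ hw')
  constructor
  · intro hG x hx P hP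
    obtain ⟨t, ht⟩ := RA.exists_gen_of_isGloballyGenerated (isInvertible_divMod D) hG x
    exact (key x hx P hP).2 ⟨Amp.gval t, by rwa [Amp.secHom_gval]⟩
  · intro h
    refine RA.isGloballyGenerated_of_gen (isInvertible_divMod D) fun x => ?_
    by_cases hx : x ∈ Mero.supp D
    · haveI := hreg x hx
      obtain ⟨P, hP⟩ := exists_divOfPoint hC (hcl x hx)
      obtain ⟨t, ht⟩ := (key x hx P hP).1 (h x hx P hP)
      exact ⟨_, ht⟩
    · exact ⟨_, mem_genLocus_oneSec hD hx⟩

end Main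

end Groth.Agent.GGDiv2
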